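import Cfsg.Agent.Lib.Solvable.Structure
import Mathlib.GroupTheory.Sylow

/-!
# Small centralizers in a Sylow subgroup persist

If `N` is normal, the Sylow subgroup `P` has index at most `p ^ 2` over `P ⊓ N` and `s ∈ P \ N` has
centralizer of order at most `p ^ 2` in `P`, then the `p`-subgroups centralizing `s` in the whole
group have order at most `p ^ 2`.
-/

set_option autoImplicit false

namespace Cfsg.Agent.MaxClassSylow

universe u

variable {G : Type u} [Group G] [Finite G] {p : ℕ} [hp : Fact p.Prime]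

/-- All `p`-subgroups centralizing `s` have order at most `p ^ 2`. -/
def SmallC (p : ℕ) {G : Type u} [Group G] (s : G) : Prop :=
  ∀ D : Subgroup G, IsPGroup p D → (∀ d ∈ D, d * s = s * d) → Nat.card D ≤ p ^ 2

/-- A normalized subgroup of order `p` of a `p`-group is central. -/
theorem commute_of_card_prime {K A : Subgroup G} (hK : IsPGroup p K) (hAK : A ≤ K)
    (hA : Nat.card A = p) (hn : ∀ k ∈ K, ∀ a ∈ A, k * a * k⁻¹ ∈ A) :
    ∀ k ∈ K, ∀ a ∈ A, k * a = a * k := by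
  haveI := hK.isNilpotent
  haveI : (A.subgroupOf K).Normal :=
    ⟨fun a ha k => hn k k.2 a ha⟩
  have hne : A.subgroupOf K ≠ ⊥ := by
    intro h
    have hc : Nat.card (A.subgroupOf K) = p := by
      rw [Nat.card_congr (Subgroup.subgroupOfEquivOfLe hAK).toEquiv, hA]
    rw [h, Subgroup.card_bot] at hc
    exact hp.out.ne_one hc.symm
  have hI := SolvStruct.inf_center_ne_bot hne
  have hle : A.subgroupOf K ≤ Subgroup.center K := by
    have hc : Nat.card (A.subgroupOf K) = p := by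
      rw [Nat.card_congr (Subgroup.subgroupOfEquivOfLe hAK).toEquiv, hA]
    haveI : Fact (Nat.card (A.subgroupOf K)).Prime := ⟨hc ▸ hp.out⟩
    rcases ((A.subgroupOf K ⊓ Subgroup.center K).subgroupOf (A.subgroupOf K)).eq_bot_or_eq_top_of_prime_card
      with h | h
    · exact absurd (by
        rw [Subgroup.subgroupOf_eq_bot, disjoint_iff, inf_assoc, inf_comm (Subgroup.center K),
          ← inf_assoc, inf_idem] at h
        exact h) hI
    · exact (Subgroup.subgroupOf_eq_top.1 h).trans inf_le_right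
  intro k hk a ha
  exact congrArg Subtype.val (Subgroup.mem_center_iff.1
    (hle (Subgroup.mem_subgroupOf.2 ha : (⟨a, hAK ha⟩ : K) ∈ A.subgroupOf K)) ⟨k, hk⟩)

/-- A `p`-subgroup that is not everything grows in its normalizer. -/
theorem exists_normalizing {D E : Subgroup G} (hD : IsPGroup p D) (hED : E ≤ D)
    (hlt : Nat.card E < Nat.card D) : ∃ g ∈ D, g ∉ E ∧ ∀ e ∈ E, g * e * g⁻¹ ∈ E := by
  haveI := hD.isNilpotent
  have hne : E.subgroupOf D < ⊤ := lt_top_iff_ne_top.2 fun h =>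
    (Subgroup.card_le_of_le (Subgroup.subgroupOf_eq_top.1 h)).not_gt hlt
  obtain ⟨g, hg, hgE⟩ := SetLike.exists_of_lt (Group.normalizerCondition_of_isNilpotent _ hne)
  refine ⟨g, g.2, fun h => hgE (Subgroup.mem_subgroupOf.2 h), fun e he => ?_⟩
  exact ((Subgroup.mem_normalizer_iff.1 hg) ⟨e, hED he⟩).1 (Subgroup.mem_subgroupOf.2 he)

/-- A `p`-subgroup in a subgroup lies in a Sylow subgroup of the latter. -/
theorem exists_sylow_in {D C : Subgroup G} (hD : IsPGroup p D) (hDC : D ≤ C) :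
    ∃ S : Subgroup G, IsPGroup p S ∧ D ≤ S ∧ S ≤ C ∧
      ∀ T : Subgroup G, IsPGroup p T → T ≤ C → ∃ c ∈ C, ∀ t ∈ T, c * t * c⁻¹ ∈ S := by
  obtain ⟨S, hS⟩ := IsPGroup.exists_le_sylow (P := D.subgroupOf C)
    (hD.of_equiv (Subgroup.subgroupOfEquivOfLe hDC).symm)
  refine ⟨(S : Subgroup C).map C.subtype, S.isPGroup'.map _, fun d hd => ?_, Subgroup.map_subtype_le _,
    fun T hT hTC => ?_⟩
  · exact ⟨⟨d, hDC hd⟩, hS (Subgroup.mem_subgroupOf.2 hd), rfl⟩
  · obtain ⟨T', hT'⟩ := IsPGroup.exists_le_sylow (P := T.subgroupOf C)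
      (hT.of_equiv (Subgroup.subgroupOfEquivOfLe hTC).symm)
    obtain ⟨c, hc⟩ := MulAction.exists_smul_eq C T' S
    refine ⟨c, c.2, fun t ht => ?_⟩
    refine ⟨c * ⟨t, hTC ht⟩ * c⁻¹, ?_, rfl⟩
    rw [← hc]
    exact Subgroup.smul_mem_pointwise_smul _ (MulAut.conj c) _ (hT' (Subgroup.mem_subgroupOf.2 ht))

theorem smallC_of_index_le (m : ℕ) : ∀ (G : Type u) [Group G] [Finite G] (P : Sylow p G)
    (N : Subgroup G) [N.Normal] (s : G), Nat.card P = p ^ m →
    p ^ m ≤ p ^ 2 * Nat.card ((P : Subgroup G) ⊓ N : Subgroup G) → s ∈ (P : Subgroup G) → s ∉ N →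
    Nat.card ((P : Subgroup G) ⊓ Subgroup.centralizer ({s} : Set G) : Subgroup G) ≤ p ^ 2 →
    SmallC p s := by
  induction m using Nat.strong_induction_on with
  | _ m ih =>
  intro G _ _ P N _ s hP hidx hsP hsN hsC
  intro D hD hDs
  have h2 := hp.out.two_le
  rcases Nat.lt_or_ge m 3 with hm | hm
  · obtain ⟨T, hT⟩ := hD.exists_le_sylow
    refine (Subgroup.card_le_of_le hT).trans ?_
    rw [Sylow.card_eq_multiplicity, ← Sylow.card_eq_multiplicity P, hP]
    exact Nat.pow_le_pow_right hp.out.pos (by omega)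
  by_contra hbig
  rw [not_le] at hbig
  haveI := P.isPGroup'.isNilpotent
  -- a central element of order `p` in `N`
  have hPN : (N.subgroupOf (P : Subgroup G)) ≠ ⊥ := by
    intro h
    rw [Subgroup.subgroupOf_eq_bot, disjoint_iff, inf_comm] at h
    rw [h, Subgroup.card_bot, mul_one] at hidx
    have := (Nat.pow_le_pow_iff_right hp.out.one_lt).1 hidx
    omega
  have hI := SolvStruct.inf_center_ne_bot hPN
  obtain ⟨w, hw⟩ : ∃ w : ↥(N.subgroupOf (P : Subgroup G) ⊓ Subgroup.center P), orderOf w = p := by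
    obtain ⟨a, ha⟩ := IsPGroup.iff_card.1
      (P.isPGroup'.to_subgroup (N.subgroupOf (P : Subgroup G) ⊓ Subgroup.center P))
    refine exists_prime_orderOf_dvd_card' p (ha ▸ dvd_pow_self p ?_)
    rintro rfl
    exact hI ((Subgroup.eq_bot_iff_card _).2 (by rw [ha, pow_zero]))
  set z : G := ((w : P) : G) with hzdef
  have hzo : orderOf z = p := by rw [hzdef, Subgroup.orderOf_coe, Subgroup.orderOf_coe, hw]
  have hzN : z ∈ N := Subgroup.mem_subgroupOf.1 w.2.1
  have hzP : z ∈ (P : Subgroup G) := (w : P).2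
  have hzc : ∀ x ∈ (P : Subgroup G), x * z = z * x := fun x hx =>
    congrArg Subtype.val (Subgroup.mem_center_iff.1 w.2.2 ⟨x, hx⟩)
  set Z := Subgroup.zpowers z with hZ
  have hZc : Nat.card Z = p := by rw [hZ, Nat.card_zpowers, hzo]
  have hZN : Z ≤ N := Subgroup.zpowers_le.2 hzN
  -- `E`
  set Cs := Subgroup.centralizer ({s} : Set G) with hCs
  set E := (P : Subgroup G) ⊓ Cs with hE
  have hsCs : s ∈ Cs := Subgroup.mem_centralizer_singleton_iff.2 rfl
  have hsE : s ∈ E := ⟨hsP, hsCs⟩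
  have hzE : z ∈ E := ⟨hzP, Subgroup.mem_centralizer_singleton_iff.2 (hzc s hsP).symm⟩
  have hEp : IsPGroup p E := P.isPGroup'.to_le inf_le_left
  have hEN : E ⊓ N = Z := by
    refine (Subgroup.eq_of_le_of_card_ge (le_inf (Subgroup.zpowers_le.2 hzE) hZN) ?_).symm
    have hlt : E ⊓ N < E := SetLike.lt_iff_le_and_exists.2 ⟨inf_le_left, s, hsE, fun h => hsN h.2⟩
    obtain ⟨a, ha⟩ := IsPGroup.iff_card.1 (hEp.to_le (inf_le_left : E ⊓ N ≤ E))
    obtain ⟨b, hb⟩ := IsPGroup.iff_card.1 hEp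
    have h1 : Nat.card ↥(E ⊓ N) < Nat.card ↥E :=
      Set.ncard_lt_ncard (SetLike.coe_ssubset_coe.2 hlt) (Set.toFinite _)
    rw [ha, hb] at h1
    rw [hb] at hsC
    have h1' := (Nat.pow_lt_pow_iff_right hp.out.one_lt).1 h1
    have h2' := (Nat.pow_le_pow_iff_right hp.out.one_lt).1 hsC
    rw [hZc, ha]
    exact (Nat.pow_le_pow_right hp.out.pos (by omega : a ≤ 1)).trans (pow_one p).le
  -- a larger abelian subgroup centralizing `E`
  obtain ⟨S, hSp, hES, hSC, hSconj⟩ := exists_sylow_in hEp (inf_le_right : E ≤ Cs)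
  have hScard : Nat.card E < Nat.card S := by
    obtain ⟨c, -, hc⟩ := hSconj D hD fun d hd => Subgroup.mem_centralizer_singleton_iff.2 (hDs d hd)
    have h1 : Nat.card D ≤ Nat.card S := Nat.card_le_card_of_injective
      (fun d => (⟨c * d * c⁻¹, hc d d.2⟩ : S)) fun a b hab =>
        Subtype.ext (mul_left_cancel (mul_right_cancel (congrArg Subtype.val hab)))
    exact lt_of_le_of_lt hsC (lt_of_lt_of_le hbig h1)
  obtain ⟨g, hgS, hgE, hgn⟩ := exists_normalizing hSp hES hScard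
  have hgs : g * s = s * g := Subgroup.mem_centralizer_singleton_iff.1 (hSC hgS)
  have hgz : g * z = z * g := by
    refine commute_of_card_prime (K := S ⊓ Subgroup.normalizer (E : Set G)) (A := Z)
      (hSp.to_le inf_le_left) ?_ hZc ?_ g ⟨hgS, ?_⟩ z (Subgroup.mem_zpowers z)
    · exact le_inf (Subgroup.zpowers_le.2 (hES hzE))
        ((Subgroup.zpowers_le.2 hzE).trans Subgroup.le_normalizer)
    · intro k hk a ha
      rw [← hEN] at ha ⊢
      exact ⟨(Subgroup.mem_normalizer_iff.1 hk.2 a).1 ha.1, ‹N.Normal›.conj_mem a ha.2 k⟩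
    · haveI := Fact.mk hp.out
      refine Subgroup.mem_normalizer_iff.2 fun x => ⟨fun hx => hgn x hx, fun hx => ?_⟩
      have hfin : E.map (MulAut.conj g).toMonoidHom = E := by
        refine Subgroup.eq_of_le_of_card_ge ?_ ?_
        · rintro _ ⟨e, he, rfl⟩
          exact hgn e he
        · rw [Subgroup.card_map_of_injective (f := (MulAut.conj g).toMonoidHom) (MulAut.conj g).injective]
      obtain ⟨e, he, hee⟩ : g * x * g⁻¹ ∈ E.map (MulAut.conj g).toMonoidHom := by rw [hfin]; exact hx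
      have : e = x := mul_left_cancel (mul_right_cancel hee)
      rwa [← this]
  -- the centralizer of `z`
  set C := Subgroup.centralizer ({z} : Set G) with hC
  have hPC : (P : Subgroup G) ≤ C := fun x hx => Subgroup.mem_centralizer_singleton_iff.2 (hzc x hx)
  let Zc : Subgroup C := Z.subgroupOf C
  haveI hZcn : Zc.Normal := by
    refine ⟨fun a ha k => Subgroup.mem_subgroupOf.2 ?_⟩
    obtain ⟨i, hi⟩ := Subgroup.mem_zpowers_iff.1 (Subgroup.mem_subgroupOf.1 ha)
    have hk : Commute (k : G) z := Subgroup.mem_centralizer_singleton_iff.1 k.2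
    show (k : G) * a * (k : G)⁻¹ ∈ Z
    rw [← hi, (hk.zpow_right i).eq, mul_inv_cancel_right]
    exact zpow_mem (Subgroup.mem_zpowers z) i
  set f := QuotientGroup.mk' Zc with hf
  have hfs : Function.Surjective f := QuotientGroup.mk'_surjective Zc
  have hf1 : ∀ x : C, f x = 1 ↔ (x : G) ∈ Z := fun x => by
    rw [hf, QuotientGroup.mk'_apply, QuotientGroup.eq_one_iff]
    exact Subgroup.mem_subgroupOf
  let Pb := (P.subtype hPC).mapSurjective hfs
  let sb := f ⟨s, hPC hsP⟩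
  let Nb := (N.subgroupOf C).map f
  haveI : Nb.Normal := (inferInstance : (N.subgroupOf C).Normal).map f hfs
  have hcardmap : ∀ K : Subgroup G, Z ≤ K → K ≤ C →
      p * Nat.card ((K.subgroupOf C).map f) = Nat.card K := by
    intro K hZK hKC
    have h1 := Subgroup.relIndex_mul_relIndex (H := ⊥) (K := Zc) (L := K.subgroupOf C) bot_le
      (fun x hx => hZK hx)
    have h3 : Zc.relIndex (K.subgroupOf C) = Nat.card ((K.subgroupOf C).map f) := by
      rw [← Subgroup.relIndex_ker, hf, QuotientGroup.ker_mk']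
    rw [Subgroup.relIndex_bot_left, Subgroup.relIndex_bot_left, h3,
      Nat.card_congr (Subgroup.subgroupOfEquivOfLe hKC).toEquiv] at h1
    rw [← h1, Nat.card_congr (Subgroup.subgroupOfEquivOfLe (hZK.trans hKC)).toEquiv, hZc]
  have hPb : (Pb : Subgroup (C ⧸ Zc)) = ((P : Subgroup G).subgroupOf C).map f := rfl
  have hcardP : Nat.card Pb = p ^ (m - 1) := by
    refine Nat.eq_of_mul_eq_mul_left hp.out.pos ?_
    change p * Nat.card ↥(Pb : Subgroup (C ⧸ Zc)) = _
    rw [hPb, hcardmap _ (Subgroup.zpowers_le.2 hzP) hPC, ← pow_succ', show m - 1 + 1 = m by omega]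
    exact hP
  have hinf : (Pb : Subgroup (C ⧸ Zc)) ⊓ Nb = (((P : Subgroup G) ⊓ N).subgroupOf C).map f := by
    refine le_antisymm ?_ ?_
    · rw [hPb]
      rintro _ ⟨⟨x, hx, rfl⟩, ⟨y, hy, hyx⟩⟩
      refine ⟨x, Subgroup.mem_subgroupOf.2 ⟨hx, ?_⟩, rfl⟩
      have h1 : (((y⁻¹ * x : C)) : G) ∈ Z := (hf1 _).1 (by rw [map_mul, map_inv, hyx, inv_mul_cancel])
      have h3 := mul_mem (Subgroup.mem_subgroupOf.1 hy) (hZN h1)
      rwa [Subgroup.coe_mul, Subgroup.coe_inv, mul_inv_cancel_left] at h3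
    · rw [hPb]
      exact le_inf (Subgroup.map_mono fun x hx => hx.1) (Subgroup.map_mono fun x hx => hx.2)
  have hidx' : p ^ (m - 1) ≤ p ^ 2 * Nat.card ((Pb : Subgroup (C ⧸ Zc)) ⊓ Nb : Subgroup (C ⧸ Zc)) := by
    refine Nat.le_of_mul_le_mul_left ?_ hp.out.pos
    rw [← pow_succ', show m - 1 + 1 = m by omega, mul_left_comm, hinf,
      hcardmap _ (le_inf (Subgroup.zpowers_le.2 hzP) hZN) (inf_le_left.trans hPC)]
    exact hidx
  have hsNb : sb ∉ Nb := by
    rintro ⟨y, hy, hys⟩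
    refine hsN ?_
    have h1 : (((y⁻¹ * ⟨s, hPC hsP⟩ : C)) : G) ∈ Z := (hf1 _).1 (by
      rw [map_mul, map_inv, hys, inv_mul_cancel])
    have h3 := mul_mem (Subgroup.mem_subgroupOf.1 hy) (hZN h1)
    rwa [Subgroup.coe_mul, Subgroup.coe_inv, mul_inv_cancel_left] at h3
  -- the elements fixing `s` modulo `Z`
  set M : Subgroup G := ((Subgroup.centralizer ({sb} : Set (C ⧸ Zc))).comap f).map C.subtype with hM
  have hMmem : ∀ x : C, (x : G) ∈ M ↔ f x * sb = sb * f x := fun x => by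
    rw [hM, show (x : G) = C.subtype x from rfl, Subgroup.mem_map_iff_mem C.subtype_injective,
      Subgroup.mem_comap, Subgroup.mem_centralizer_singleton_iff]
  have hMC : M ≤ C := Subgroup.map_subtype_le _
  have hMval : ∀ x ∈ M, ∃ c ∈ Z, x * s * x⁻¹ = c * s := by
    intro x hx
    refine ⟨x * s * x⁻¹ * s⁻¹, ?_, by group⟩
    have h1 := (hMmem ⟨x, hMC hx⟩).1 hx
    have := (hf1 (⟨x, hMC hx⟩ * ⟨s, hPC hsP⟩ * ⟨x, hMC hx⟩⁻¹ * ⟨s, hPC hsP⟩⁻¹)).1 (by
      rw [map_mul, map_mul, map_mul, map_inv, map_inv, h1, mul_inv_cancel_right, mul_inv_cancel])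
    simpa using this
  have hsb : sb ∈ (Pb : Subgroup (C ⧸ Zc)) := ⟨⟨s, hPC hsP⟩, hsP, rfl⟩
  have hsCb : Nat.card ((Pb : Subgroup (C ⧸ Zc)) ⊓ Subgroup.centralizer ({sb} : Set (C ⧸ Zc)) :
      Subgroup (C ⧸ Zc)) ≤ p ^ 2 := by
    have heq : (Pb : Subgroup (C ⧸ Zc)) ⊓ Subgroup.centralizer ({sb} : Set (C ⧸ Zc)) =
        (((P : Subgroup G) ⊓ M).subgroupOf C).map f := by
      rw [hPb]
      refine le_antisymm ?_ ?_
      · rintro _ ⟨⟨x, hx, rfl⟩, hxc⟩
        exact ⟨x, Subgroup.mem_subgroupOf.2 ⟨hx, (hMmem x).2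
          (Subgroup.mem_centralizer_singleton_iff.1 hxc)⟩, rfl⟩
      · rintro _ ⟨x, hx, rfl⟩
        exact ⟨⟨x, hx.1, rfl⟩, Subgroup.mem_centralizer_singleton_iff.2 ((hMmem x).1 hx.2)⟩
    have hZM : Z ≤ (P : Subgroup G) ⊓ M := Subgroup.zpowers_le.2 ⟨hzP, (hMmem ⟨z, hPC hzP⟩).2 (by
      rw [(hf1 _).2 (Subgroup.mem_zpowers z), one_mul, mul_one])⟩
    refine Nat.le_of_mul_le_mul_left ?_ hp.out.pos
    rw [heq, hcardmap _ hZM (inf_le_left.trans hPC)]
    -- fibres of `x ↦ [x, s]`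
    have hle : Nat.card ↥((P : Subgroup G) ⊓ M) ≤ Nat.card Z * Nat.card E := by
      classical
      let r : Z → G := fun c => if h : ∃ x ∈ (P : Subgroup G) ⊓ M, x * s * x⁻¹ = (c : G) * s then h.choose else 1
      have hr : ∀ x ∈ (P : Subgroup G) ⊓ M, ∀ c : Z, x * s * x⁻¹ = (c : G) * s →
          (r c)⁻¹ * x ∈ E := by
        intro x hx c hc
        have hex : ∃ x ∈ (P : Subgroup G) ⊓ M, x * s * x⁻¹ = (c : G) * s := ⟨x, hx, hc⟩
        simp only [r, dif_pos hex]
        obtain ⟨hy, hyc⟩ := hex.choose_spec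
        generalize hex.choose = y at hy hyc ⊢
        refine ⟨Subgroup.mul_mem _ (Subgroup.inv_mem _ hy.1) hx.1, Subgroup.mem_centralizer_singleton_iff.2 ?_⟩
        have h3 : x * s * x⁻¹ = y * s * y⁻¹ := hc.trans hyc.symm
        calc y⁻¹ * x * s = y⁻¹ * (x * s * x⁻¹) * x := by group
          _ = s * (y⁻¹ * x) := by rw [h3]; group
      choose c hc1 hc2 using fun x : ↥((P : Subgroup G) ⊓ M) => hMval x x.2.2
      rw [← Nat.card_prod]
      refine Nat.card_le_card_of_injective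
        (fun x => ((⟨c x, hc1 x⟩ : Z), (⟨_, hr x x.2 ⟨c x, hc1 x⟩ (hc2 x)⟩ : E))) fun a b hab => ?_
      have e1 := congrArg Prod.fst hab
      have e2 : (r ⟨c a, hc1 a⟩)⁻¹ * (a : G) = (r ⟨c b, hc1 b⟩)⁻¹ * (b : G) :=
        congrArg (fun t => (t.2 : G)) hab
      simp only at e1
      rw [e1] at e2
      exact Subtype.ext (mul_left_cancel e2)
    exact hle.trans (hZc.symm ▸ Nat.mul_le_mul_left _ hsC)
  have hIH := ih (m - 1) (by omega) (C ⧸ Zc) Pb Nb sb hcardP hidx' hsb hsNb hsCb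
  -- an element of `P` moving `s` within its coset of `Z`
  obtain ⟨x, hxP, hxE, hxn⟩ := exists_normalizing P.isPGroup' (inf_le_left : E ≤ (P : Subgroup G))
    (lt_of_le_of_lt hsC (by rw [hP]; exact Nat.pow_lt_pow_right hp.out.one_lt (by omega)))
  have hxM : x ∈ M := by
    refine (hMmem ⟨x, hPC hxP⟩).2 ?_
    set K := (P : Subgroup G) ⊓ Subgroup.normalizer (E : Set G) with hK
    have hKP : ((K.subgroupOf C).map f) ≤ (Pb : Subgroup (C ⧸ Zc)) := by
      rw [hPb]; exact Subgroup.map_mono fun a ha => ha.1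
    have hxK : x ∈ K := by
      refine ⟨hxP, Subgroup.mem_normalizer_iff.2 fun y => ⟨fun hy => hxn y hy, fun hy => ?_⟩⟩
      have hfin : E.map (MulAut.conj x).toMonoidHom = E := by
        refine Subgroup.eq_of_le_of_card_ge ?_ ?_
        · rintro _ ⟨e, he, rfl⟩
          exact hxn e he
        · rw [Subgroup.card_map_of_injective (f := (MulAut.conj x).toMonoidHom) (MulAut.conj x).injective]
      obtain ⟨e, he, hee⟩ : x * y * x⁻¹ ∈ E.map (MulAut.conj x).toMonoidHom := by rw [hfin]; exact hy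
      have : e = y := mul_left_cancel (mul_right_cancel hee)
      rwa [← this]
    have hEc : Nat.card ((E.subgroupOf C).map f) = p := by
      have hEcard : Nat.card E = p ^ 2 := by
        obtain ⟨b, hb⟩ := IsPGroup.iff_card.1 hEp
        have hlt : Z < E := SetLike.lt_iff_le_and_exists.2
          ⟨Subgroup.zpowers_le.2 hzE, s, hsE, fun h => hsN (hZN h)⟩
        have h1 : Nat.card Z < Nat.card E :=
          Set.ncard_lt_ncard (SetLike.coe_ssubset_coe.2 hlt) (Set.toFinite _)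
        rw [hZc, hb] at h1
        rw [hb] at hsC ⊢
        have h2' := (Nat.pow_le_pow_iff_right hp.out.one_lt).1 hsC
        have h1' : 1 < b := (Nat.pow_lt_pow_iff_right hp.out.one_lt).1 ((pow_one p).le.trans_lt h1)
        congr 1
        omega
      refine Nat.eq_of_mul_eq_mul_left hp.out.pos ?_
      rw [hcardmap E (Subgroup.zpowers_le.2 hzE) (inf_le_left.trans hPC), hEcard, pow_two]
    exact commute_of_card_prime (K := (K.subgroupOf C).map f) (A := (E.subgroupOf C).map f)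
      (Pb.isPGroup'.to_le hKP) (Subgroup.map_mono fun a ha => ⟨ha.1, Subgroup.le_normalizer ha⟩) hEc
      (by
        rintro _ ⟨k, hk, rfl⟩ _ ⟨a, ha, rfl⟩
        exact ⟨k * a * k⁻¹, (Subgroup.mem_normalizer_iff.1 hk.2 a).1 ha, by
          rw [map_mul, map_mul, map_inv]⟩)
      _ ⟨⟨x, hPC hxP⟩, hxK, rfl⟩ sb ⟨⟨s, hPC hsP⟩, hsE, rfl⟩
  have hxs : x * s ≠ s * x := fun h => hxE ⟨hxP, Subgroup.mem_centralizer_singleton_iff.2 h⟩
  -- count inside `M`
  set D₁ := S ⊓ C with hD₁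
  have hD₁card : p ^ 2 < Nat.card D₁ := by
    have hle : E ≤ D₁ := le_inf hES (inf_le_left.trans hPC)
    have hgD : g ∈ D₁ := ⟨hgS, Subgroup.mem_centralizer_singleton_iff.2 hgz⟩
    have hlt : E < D₁ := SetLike.lt_iff_le_and_exists.2 ⟨hle, g, hgD, hgE⟩
    have h1 : Nat.card E < Nat.card D₁ :=
      Set.ncard_lt_ncard (SetLike.coe_ssubset_coe.2 hlt) (Set.toFinite _)
    have hZE : Z < E := SetLike.lt_iff_le_and_exists.2
      ⟨Subgroup.zpowers_le.2 hzE, s, hsE, fun h => hsN (hZN h)⟩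
    have h3 : Nat.card Z < Nat.card E :=
      Set.ncard_lt_ncard (SetLike.coe_ssubset_coe.2 hZE) (Set.toFinite _)
    obtain ⟨b, hb⟩ := IsPGroup.iff_card.1 hEp
    rw [hZc, hb] at h3
    rw [hb] at h1
    have h3' : 1 < b := (Nat.pow_lt_pow_iff_right hp.out.one_lt).1 ((pow_one p).le.trans_lt h3)
    exact lt_of_le_of_lt (Nat.pow_le_pow_right hp.out.pos h3') h1
  set Cz := Cs ⊓ C with hCz
  have hCzM : Cz ≤ M := fun y hy => (hMmem ⟨y, hy.2⟩).2 (by
    rw [← map_mul, ← map_mul]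
    exact congrArg f (Subtype.ext (Subgroup.mem_centralizer_singleton_iff.1 hy.1)))
  obtain ⟨R, hRp, hxR, hRM, hRconj⟩ := exists_sylow_in
    ((P.isPGroup').to_le (inf_le_left : (P : Subgroup G) ⊓ M ≤ (P : Subgroup G))) inf_le_right
  obtain ⟨c, hcM, hc⟩ := hRconj D₁ (hSp.to_le inf_le_left)
    ((inf_le_inf_right C hSC).trans hCzM)
  have hcnorm : ∀ d ∈ D₁, c * d * c⁻¹ ∈ Cz := by
    intro d hd
    obtain ⟨e, he, hce⟩ := hMval c⁻¹ (inv_mem hcM)
    have hcC := hMC hcM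
    have hdC : d ∈ C := hd.2
    refine ⟨Subgroup.mem_centralizer_singleton_iff.2 ?_, Subgroup.mul_mem _ (Subgroup.mul_mem _ hcC hdC) (Subgroup.inv_mem _ hcC)⟩
    have hds : d * s = s * d := Subgroup.mem_centralizer_singleton_iff.1 (hSC hd.1)
    obtain ⟨i, rfl⟩ := Subgroup.mem_zpowers_iff.1 he
    have hdz : d * z ^ i = z ^ i * d :=
      (Commute.zpow_right (Subgroup.mem_centralizer_singleton_iff.1 hdC : Commute d z) i).eq
    rw [inv_inv] at hce
    calc c * d * c⁻¹ * s = c * (d * (c⁻¹ * s * c)) * c⁻¹ := by group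
      _ = c * (d * (z ^ i * s)) * c⁻¹ := by rw [hce]
      _ = c * (z ^ i * s * d) * c⁻¹ := by
        rw [← mul_assoc d (z ^ i) s, hdz, mul_assoc (z ^ i) d s, hds, mul_assoc (z ^ i) s d]
      _ = c * (c⁻¹ * s * c * d) * c⁻¹ := by rw [hce]
      _ = s * (c * d * c⁻¹) := by group
  have hRbig : p ^ 2 * p < Nat.card R := by
    have h1 : Nat.card D₁ ≤ Nat.card (R ⊓ Cz : Subgroup G) := Nat.card_le_card_of_injective
      (fun d => (⟨c * d * c⁻¹, hc d d.2, hcnorm d d.2⟩ : (R ⊓ Cz : Subgroup G))) fun a b hab =>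
        Subtype.ext (mul_left_cancel (mul_right_cancel (congrArg Subtype.val hab)))
    have hlt : R ⊓ Cz < R := SetLike.lt_iff_le_and_exists.2 ⟨inf_le_left, x, hxR ⟨hxP, hxM⟩,
      fun h => hxs (Subgroup.mem_centralizer_singleton_iff.1 h.2.1)⟩
    have h3 : Nat.card ↥(R ⊓ Cz) < Nat.card R :=
      Set.ncard_lt_ncard (SetLike.coe_ssubset_coe.2 hlt) (Set.toFinite _)
    obtain ⟨a, ha⟩ := IsPGroup.iff_card.1 (hRp.to_le (inf_le_left : R ⊓ Cz ≤ R))
    obtain ⟨b, hb⟩ := IsPGroup.iff_card.1 hRp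
    have h4 := hD₁card.trans_le h1
    rw [ha, hb] at h3
    rw [ha] at h4
    have h3' := (Nat.pow_lt_pow_iff_right hp.out.one_lt).1 h3
    have h4' := (Nat.pow_lt_pow_iff_right hp.out.one_lt).1 h4
    rw [hb, ← pow_succ]
    exact Nat.pow_lt_pow_right hp.out.one_lt (by omega)
  have hZR : Z ≤ R := Subgroup.zpowers_le.2 (hxR ⟨hzP, (hMmem ⟨z, hPC hzP⟩).2 (by
    rw [(hf1 _).2 (Subgroup.mem_zpowers z), one_mul, mul_one])⟩)
  have hsmall := hIH ((R.subgroupOf C).map f)
    ((hRp.of_equiv (Subgroup.subgroupOfEquivOfLe (hRM.trans hMC)).symm).map f) (by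
      rintro _ ⟨y, hy, rfl⟩
      exact (hMmem y).1 (hRM hy))
  have h5 : Nat.card R ≤ p ^ 2 * p := by
    rw [← hcardmap R hZR (hRM.trans hMC), mul_comm (p ^ 2) p]
    exact Nat.mul_le_mul_left _ hsmall
  omega

end Cfsg.Agent.MaxClassSylow
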