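import Cfsg.Agent.Lib.MaxClassSylow.Descent

/-!
# A self-centralizing normal `p`-subgroup with a uniserial element

If an element `s` of a Sylow subgroup `P` fixes at most `p` elements of the normal self-centralizing
`p`-subgroup `K`, its fusion in `P` is controlled by the normalizer of `P`.
-/

set_option autoImplicit false

namespace Cfsg.Agent.MaxClassSylow

open scoped commutatorElement

universe u

variable {G : Type u} [Group G] [Finite G] {p : ℕ} [hp : Fact p.Prime]

/-- The upper central series of `P`, cut by `K`. -/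
noncomputable def cut (P : Sylow p G) (K : Subgroup G) (i : ℕ) : Subgroup G :=
  (Subgroup.upperCentralSeries ↥(P : Subgroup G) i).map (P : Subgroup G).subtype ⊓ K

/-- The iterated preimages of `1` under `a ↦ ⁅a, t⁆`. -/
def kerSet (K : Subgroup G) (t : G) : ℕ → Set G
  | 0 => {1}
  | i + 1 => {a | a ∈ K ∧ ⁅a, t⁆ ∈ kerSet K t i}

variable {P : Sylow p G} {K : Subgroup G}

theorem cut_step {i : ℕ} [K.Normal] {a x : G} (ha : a ∈ cut P K (i + 1)) (hx : x ∈ (P : Subgroup G)) :
    ⁅a, x⁆ ∈ cut P K i := by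
  obtain ⟨⟨b, hb, rfl⟩, haK⟩ := ha
  refine ⟨⟨⁅b, ⟨x, hx⟩⁆, ?_, rfl⟩, ?_⟩
  · exact (Subgroup.mem_upperCentralSeries_succ_iff.1 hb) _
  · rw [commutatorElement_def, mul_assoc, mul_assoc]
    exact Subgroup.mul_mem _ haK (by rw [← mul_assoc]; exact ‹K.Normal›.conj_mem _ (inv_mem haK) x)

theorem cut_mono {i : ℕ} : cut P K i ≤ cut P K (i + 1) :=
  inf_le_inf_right K (Subgroup.map_mono (Subgroup.upperCentralSeries_mono _ (Nat.le_succ i)))

theorem cut_lt [K.Normal] (hKP : K ≤ (P : Subgroup G)) {i : ℕ} (h : cut P K i ≠ K) :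
    cut P K i < cut P K (i + 1) := by
  refine lt_of_le_of_ne cut_mono fun heq => ?_
  set Zi := Subgroup.upperCentralSeries ↥(P : Subgroup G) i with hZi
  haveI : (K.subgroupOf (P : Subgroup G)).Normal := inferInstance
  haveI : ((K.subgroupOf (P : Subgroup G)).map (QuotientGroup.mk' Zi)).Normal :=
    (inferInstance : (K.subgroupOf (P : Subgroup G)).Normal).map _ (QuotientGroup.mk'_surjective Zi)
  haveI := (P.isPGroup'.to_quotient Zi).isNilpotent
  have hne : (K.subgroupOf (P : Subgroup G)).map (QuotientGroup.mk' Zi) ≠ ⊥ := by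
    intro hb
    rw [Subgroup.map_eq_bot_iff, QuotientGroup.ker_mk'] at hb
    exact h (le_antisymm inf_le_right fun a ha =>
      ⟨⟨⟨a, hKP ha⟩, hb (Subgroup.mem_subgroupOf.2 ha), rfl⟩, ha⟩)
  obtain ⟨⟨q, hq⟩, hq1⟩ := Subgroup.ne_bot_iff_exists_ne_one.1 (SolvStruct.inf_center_ne_bot hne)
  obtain ⟨⟨a, ha, rfl⟩, hqc⟩ := hq
  have hZ1 : a ∈ Subgroup.upperCentralSeries ↥(P : Subgroup G) (i + 1) := by
    refine Subgroup.mem_upperCentralSeries_succ_iff.2 fun y => ?_
    rw [← QuotientGroup.eq_one_iff, ← QuotientGroup.mk'_apply, map_commutatorElement,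
      commutatorElement_eq_one_iff_mul_comm]
    exact (Subgroup.mem_center_iff.1 hqc _).symm
  refine hq1 (Subtype.ext ?_)
  obtain ⟨⟨b, hb, hba⟩, -⟩ : (a : G) ∈ cut P K i := heq ▸ ⟨⟨a, hZ1, rfl⟩, Subgroup.mem_subgroupOf.1 ha⟩
  rw [Subtype.ext hba] at hb
  exact (QuotientGroup.eq_one_iff a).2 hb

theorem exists_cut_eq [K.Normal] (hKP : K ≤ (P : Subgroup G)) : ∃ c, cut P K c = K := by
  haveI := P.isPGroup'.isNilpotent
  obtain ⟨c, hc⟩ := Group.IsNilpotent.nilpotent ↥(P : Subgroup G)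
  refine ⟨c, ?_⟩
  rw [cut, hc, ← MonoidHom.range_eq_map, Subgroup.range_subtype]
  exact inf_eq_right.2 hKP

theorem cut_subset_kerSet [K.Normal] {t : G} (ht : t ∈ (P : Subgroup G)) :
    ∀ i, (cut P K i : Set G) ⊆ kerSet K t i
  | 0 => by
    intro a ha
    obtain ⟨⟨b, hb, rfl⟩, -⟩ := ha
    rw [SetLike.mem_coe, Subgroup.upperCentralSeries_zero, Subgroup.mem_bot] at hb
    rw [hb]
    exact rfl
  | i + 1 => fun _ ha => ⟨ha.2, cut_subset_kerSet ht i (cut_step ha ht)⟩

theorem kerSet_conj [K.Normal] (g t : G) :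
    ∀ i, ∀ a ∈ kerSet K t i, g * a * g⁻¹ ∈ kerSet K (g * t * g⁻¹) i
  | 0 => fun a ha => by
    rw [Set.mem_singleton_iff.1 ha, mul_one, mul_inv_cancel]
    exact rfl
  | i + 1 => fun a ha => by
    refine ⟨‹K.Normal›.conj_mem a ha.1 g, ?_⟩
    have := kerSet_conj g t i _ ha.2
    rwa [show g * ⁅a, t⁆ * g⁻¹ = ⁅g * a * g⁻¹, g * t * g⁻¹⁆ by
      simp only [commutatorElement_def]; group] at this

theorem kerSet_eq_cut [K.Normal] (hKP : K ≤ (P : Subgroup G)) {s : G} (hs : s ∈ (P : Subgroup G))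
    (hsK : Nat.card (K ⊓ Subgroup.centralizer ({s} : Set G) : Subgroup G) ≤ p) :
    ∀ i, kerSet K s i = (cut P K i : Set G)
  | 0 => by
    refine Set.Subset.antisymm ?_ (cut_subset_kerSet hs 0)
    intro a ha
    rw [Set.mem_singleton_iff.1 ha]
    exact one_mem _
  | i + 1 => by
    classical
    have ih := kerSet_eq_cut hKP hs hsK i
    refine (Set.eq_of_subset_of_ncard_le (cut_subset_kerSet hs (i + 1)) ?_ (Set.toFinite _)).symm
    by_cases h : cut P K i = K
    · refine Set.ncard_le_ncard (fun a ha => ?_) (Set.toFinite _)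
      exact cut_mono (h.symm ▸ ha.1)
    have hlt := cut_lt hKP h
    have h1 : (kerSet K s (i + 1)).ncard ≤ Nat.card (cut P K i) * p := by
      rw [← Nat.card_coe_set_eq]
      refine le_trans ?_ (Nat.mul_le_mul_left _ hsK)
      rw [← Nat.card_prod]
      let r : cut P K i → G := fun c => if h : ∃ a ∈ K, ⁅a, s⁆ = (c : G) then h.choose else 1
      have hmem : ∀ a : kerSet K s (i + 1), ⁅(a : G), s⁆ ∈ cut P K i := fun a => by
        have := a.2.2
        rw [ih] at this
        exact this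
      have hr : ∀ a : kerSet K s (i + 1),
          (r ⟨_, hmem a⟩)⁻¹ * (a : G) ∈ K ⊓ Subgroup.centralizer ({s} : Set G) := by
        intro a
        have hex : ∃ b ∈ K, ⁅b, s⁆ = ((⟨_, hmem a⟩ : cut P K i) : G) := ⟨a, a.2.1, rfl⟩
        simp only [r, dif_pos hex]
        obtain ⟨hb, hbs⟩ := hex.choose_spec
        generalize hex.choose = b at hb hbs ⊢
        refine ⟨Subgroup.mul_mem _ (Subgroup.inv_mem _ hb) a.2.1, Subgroup.mem_centralizer_singleton_iff.2 ?_⟩
        have h3 : b * s * b⁻¹ = (a : G) * s * (a : G)⁻¹ := by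
          have := congrArg (· * s) hbs
          simpa [commutatorElement_def, mul_assoc] using this
        calc b⁻¹ * (a : G) * s = b⁻¹ * ((a : G) * s * (a : G)⁻¹) * (a : G) := by group
          _ = s * (b⁻¹ * (a : G)) := by rw [← h3]; group
      refine Nat.card_le_card_of_injective
        (fun a : kerSet K s (i + 1) => ((⟨_, hmem a⟩ : cut P K i),
          (⟨_, hr a⟩ : (K ⊓ Subgroup.centralizer ({s} : Set G) : Subgroup G)))) fun a b hab => ?_
      have e1 := congrArg Prod.fst hab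
      have e2 : (r ⟨_, hmem a⟩)⁻¹ * (a : G) = (r ⟨_, hmem b⟩)⁻¹ * (b : G) :=
        congrArg (fun t => (t.2 : G)) hab
      simp only at e1
      rw [e1] at e2
      exact Subtype.ext (mul_left_cancel e2)
    refine h1.trans ?_
    have hp1 : IsPGroup p (cut P K (i + 1)) := P.isPGroup'.to_le (inf_le_right.trans hKP)
    obtain ⟨a, ha⟩ := IsPGroup.iff_card.1 (hp1.to_le hlt.le)
    obtain ⟨b, hb⟩ := IsPGroup.iff_card.1 hp1
    have h3 : Nat.card ↥(cut P K i) < Nat.card ↥(cut P K (i + 1)) :=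
      Set.ncard_lt_ncard (SetLike.coe_ssubset_coe.2 hlt) (Set.toFinite _)
    rw [ha, hb] at h3
    have h3' := (Nat.pow_lt_pow_iff_right hp.out.one_lt).1 h3
    rw [ha, ← Nat.card_coe_set_eq, ← pow_succ]
    refine (Nat.pow_le_pow_right hp.out.pos (Nat.succ_le_of_lt h3')).trans hb.ge

theorem smallC_of_selfCentralizing [K.Normal] (hKP : K ≤ (P : Subgroup G))
    (hCK : Subgroup.centralizer (K : Set G) ≤ K) {s : G} (hs : s ∈ (P : Subgroup G))
    (hsK : Nat.card (K ⊓ Subgroup.centralizer ({s} : Set G) : Subgroup G) ≤ p)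
    (hsC : Nat.card ((P : Subgroup G) ⊓ Subgroup.centralizer ({s} : Set G) : Subgroup G) ≤ p ^ 2) :
    SmallC p s := by
  classical
  -- the stabilizer of the flag
  have hB : ∀ g : G, g * s * g⁻¹ ∈ (P : Subgroup G) →
      ∀ i, ∀ a ∈ cut P K i, g⁻¹ * a * g ∈ cut P K i := by
    intro g hg i a ha
    have h := kerSet_conj g⁻¹ _ i a (cut_subset_kerSet hg i ha)
    rw [inv_inv, show g⁻¹ * (g * s * g⁻¹) * g = s by group, kerSet_eq_cut hKP hs hsK i] at h
    exact h
  let B : Subgroup G := ⨅ i, Subgroup.normalizer (cut P K i : Set G)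
  have hBmem : ∀ g : G, (∀ i, ∀ a ∈ cut P K i, g⁻¹ * a * g ∈ cut P K i) → g ∈ B := by
    intro g hg
    refine Subgroup.mem_iInf.2 fun i => Subgroup.mem_normalizer_iff.2 fun x => ?_
    have hfin : (cut P K i).map (MulAut.conj g⁻¹).toMonoidHom = cut P K i := by
      refine Subgroup.eq_of_le_of_card_ge ?_ ?_
      · rintro _ ⟨e, he, rfl⟩
        simpa using hg i e he
      · rw [Subgroup.card_map_of_injective (f := (MulAut.conj g⁻¹).toMonoidHom) (MulAut.conj g⁻¹).injective]
    refine ⟨fun hx => ?_, fun hx => ?_⟩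
    · obtain ⟨e, he, hee⟩ : x ∈ (cut P K i).map (MulAut.conj g⁻¹).toMonoidHom := by rw [hfin]; exact hx
      have h1 : g⁻¹ * e * g = x := by simpa using hee
      rw [← h1, show g * (g⁻¹ * e * g) * g⁻¹ = e by group]
      exact he
    · have := hg i _ hx
      rwa [show g⁻¹ * (g * x * g⁻¹) * g = x by group] at this
  have hnorm : ∀ b ∈ B, ∀ i, ∀ a ∈ cut P K i, b * a * b⁻¹ ∈ cut P K i := fun b hb i a ha =>
    (Subgroup.mem_normalizer_iff.1 (Subgroup.mem_iInf.1 hb i) a).1 ha
  let B₀ : Subgroup G :=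
    { carrier := {g | g ∈ B ∧ ∀ i, ∀ a ∈ cut P K (i + 1), ⁅g, a⁆ ∈ cut P K i}
      one_mem' := ⟨one_mem B, fun i a _ => by simp⟩
      mul_mem' := fun {g h} hg hh => ⟨B.mul_mem hg.1 hh.1, fun i a ha => by
        rw [show ⁅g * h, a⁆ = g * ⁅h, a⁆ * g⁻¹ * ⁅g, a⁆ by simp only [commutatorElement_def]; group]
        exact mul_mem (hnorm g hg.1 i _ (hh.2 i a ha)) (hg.2 i a ha)⟩
      inv_mem' := fun {g} hg => ⟨B.inv_mem hg.1, fun i a ha => by
        rw [show ⁅g⁻¹, a⁆ = g⁻¹ * ⁅g, a⁆⁻¹ * g⁻¹⁻¹ by simp only [commutatorElement_def]; group]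
        exact hnorm _ (B.inv_mem hg.1) i _ (inv_mem (hg.2 i a ha))⟩ }
  have hPB : (P : Subgroup G) ≤ B₀ := by
    have hstep : ∀ x ∈ (P : Subgroup G), ∀ i, ∀ a ∈ cut P K (i + 1), ⁅x, a⁆ ∈ cut P K i :=
      fun x hx i a ha => by
        rw [← inv_mem_iff, commutatorElement_inv]
        exact cut_step ha hx
    intro x hx
    refine ⟨hBmem x fun i a ha => ?_, hstep x hx⟩
    have h1 := cut_mono (P := P) (K := K) ha
    rw [show x⁻¹ * a * x = ⁅x⁻¹, a⁆ * a by simp only [commutatorElement_def]; group]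
    exact mul_mem (hstep _ (inv_mem hx) i a h1) ha
  have hB₀p : IsPGroup p B₀ := by
    rw [IsPGroup.iff_card]
    refine ⟨_, Nat.eq_prime_pow_of_unique_prime_dvd Nat.card_pos.ne' fun {q} hq hqdvd => ?_⟩
    by_contra hqp
    haveI := Fact.mk hq
    obtain ⟨y, hy⟩ := exists_prime_orderOf_dvd_card' q hqdvd
    have hyq : (y : G) ^ q = 1 := by rw [← SubgroupClass.coe_pow, ← hy, pow_orderOf_eq_one]; rfl
    have hfix : ∀ i, ∀ a ∈ cut P K i, (y : G) * a = a * (y : G) := by
      intro i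
      induction i with
      | zero =>
        intro a ha
        have h0 : a = 1 := cut_subset_kerSet hs 0 ha
        rw [h0, mul_one, one_mul]
      | succ i ih =>
        intro a ha
        set c := ⁅(y : G), a⁆ with hc
        have hcm : c ∈ cut P K i := y.2.2 i a ha
        have hk : ∀ k : ℕ, (y : G) ^ k * a = c ^ k * a * (y : G) ^ k := by
          intro k
          induction k with
          | zero => simp
          | succ k ihk =>
            have hyc : (y : G) * c ^ k = c ^ k * (y : G) :=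
              ((show Commute (y : G) c from ih c hcm).pow_right k).eq
            rw [pow_succ', mul_assoc, ihk, ← mul_assoc, ← mul_assoc, hyc, mul_assoc (c ^ k) _ a,
              show (y : G) * a = c * a * (y : G) by rw [hc, commutatorElement_def]; group, pow_succ]
            group
        have h1 := hk q
        rw [hyq, one_mul, mul_one, right_eq_mul] at h1
        have hc1 : c = 1 := by
          obtain ⟨k, hk'⟩ := IsPGroup.iff_orderOf.1 P.isPGroup' ⟨c, hKP hcm.2⟩
          rw [Subgroup.orderOf_mk] at hk'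
          have h2 := orderOf_dvd_of_pow_eq_one h1
          rw [hk'] at h2
          rcases Nat.eq_zero_or_pos k with rfl | hk0
          · rw [pow_zero] at hk'
            exact orderOf_eq_one_iff.1 hk'
          · exact absurd ((Nat.prime_dvd_prime_iff_eq hp.out hq).1 ((dvd_pow_self p hk0.ne').trans h2))
              (Ne.symm hqp)
        exact commutatorElement_eq_one_iff_mul_comm.1 hc1
    obtain ⟨c, hc⟩ := exists_cut_eq (P := P) hKP
    have hyK : (y : G) ∈ K := hCK (Subgroup.mem_centralizer_iff.2 fun a ha =>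
      (hfix c a (hc.symm ▸ ha)).symm)
    obtain ⟨k, hk'⟩ := IsPGroup.iff_orderOf.1 P.isPGroup' ⟨_, hKP hyK⟩
    rw [Subgroup.orderOf_mk, Subgroup.orderOf_coe, hy] at hk'
    exact hqp ((Nat.prime_dvd_prime_iff_eq hq hp.out).1 (hq.dvd_of_dvd_pow (dvd_of_eq hk')))
  have hBP : ∀ b ∈ B, ∀ x ∈ (P : Subgroup G), b * x * b⁻¹ ∈ (P : Subgroup G) := by
    have he : B₀ = (P : Subgroup G) := P.is_maximal' hB₀p hPB
    intro b hb x hx
    rw [← he] at hx ⊢
    refine ⟨B.mul_mem (B.mul_mem hb hx.1) (B.inv_mem hb), fun i a ha => ?_⟩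
    rw [show ⁅b * x * b⁻¹, a⁆ = b * ⁅x, b⁻¹ * a * b⁻¹⁻¹⁆ * b⁻¹ by
      simp only [commutatorElement_def]; group]
    exact hnorm b hb i _ (hx.2 i _ (hnorm _ (B.inv_mem hb) (i + 1) a ha))
  -- conclusion
  intro D hD hDs
  have hsp : IsPGroup p (Subgroup.zpowers s) := P.isPGroup'.to_le (Subgroup.zpowers_le.2 hs)
  have hDn : D ≤ Subgroup.normalizer (Subgroup.zpowers s : Set G) := by
    intro d hd
    have hc : ∀ x ∈ Subgroup.zpowers s, d * x * d⁻¹ = x := by
      intro x hx
      obtain ⟨i, rfl⟩ := Subgroup.mem_zpowers_iff.1 hx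
      rw [((show Commute d s from hDs d hd).zpow_right i).eq, mul_inv_cancel_right]
    refine Subgroup.mem_normalizer_iff.2 fun x => ⟨fun hx => by rw [hc x hx]; exact hx, fun hx => ?_⟩
    have h1 := hc _ hx
    have h2 : d * x * d⁻¹ = x := mul_left_cancel (mul_right_cancel h1)
    rwa [h2] at hx
  obtain ⟨Q, hQ⟩ := (hD.to_sup_of_normal_right' hsp hDn).exists_le_sylow
  obtain ⟨h, hh⟩ := MulAction.exists_smul_eq G Q P
  have hmem : ∀ x ∈ (Q : Subgroup G), h * x * h⁻¹ ∈ (P : Subgroup G) := fun x hx => by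
    rw [← hh]
    exact Subgroup.smul_mem_pointwise_smul _ (MulAut.conj h) _ hx
  have hhB : h⁻¹ ∈ B := B.inv_mem (hBmem h (hB h (hmem s (hQ (Subgroup.mem_sup_right
    (Subgroup.mem_zpowers s))))))
  refine (Subgroup.card_le_of_le (?_ : D ≤ (P : Subgroup G) ⊓ Subgroup.centralizer ({s} : Set G))).trans hsC
  refine fun d hd => ⟨?_, Subgroup.mem_centralizer_singleton_iff.2 (hDs d hd)⟩
  have h2 := hBP _ hhB _ (hmem d (hQ (Subgroup.mem_sup_left hd)))
  rwa [inv_inv, show h⁻¹ * (h * d * h⁻¹) * h = d by group] at h2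

end Cfsg.Agent.MaxClassSylow
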