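import Cfsg.Agent.Lib.MaxClassSylow.Uniform
import Cfsg.Agent.Lib.MaxClassSylow.Flag
import Cfsg.Agent.S0081
import Cfsg.Agent.Lib.Solvable.NilpotentFrattini
import Cfsg.Prelude.Def_CaseTheorems

/-!
# Groups with a Sylow `p`-subgroup of maximal class
-/

set_option autoImplicit false

namespace Cfsg.Agent.MaxClassSylow

open scoped Pointwise

universe u

variable {G : Type u} [Group G] [Finite G] {p : ℕ} [hp : Fact p.Prime]

theorem card_centralizer_coe (P : Subgroup G) (s : P) :
    Nat.card (P ⊓ Subgroup.centralizer ({(s : G)} : Set G) : Subgroup G) =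
      Nat.card (Subgroup.centralizer ({s} : Set P)) := by
  have h : Subgroup.centralizer ({s} : Set P) =
      (Subgroup.centralizer ({(s : G)} : Set G)).subgroupOf P := by
    ext x
    rw [Subgroup.mem_subgroupOf, Subgroup.mem_centralizer_singleton_iff,
      Subgroup.mem_centralizer_singleton_iff]
    exact Subtype.ext_iff
  rw [h, ← Subgroup.card_map_of_injective P.subtype_injective, Subgroup.subgroupOf_map_subtype,
    inf_comm]

/-- The centralizer of an element of a group of order `p ^ n`, `n ≥ 2`, has order at least `p ^ 2`. -/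
theorem sq_le_card_centralizer {H : Type u} [Group H] [Finite H] {n : ℕ} (hn : Nat.card H = p ^ n)
    (h2 : 2 ≤ n) (x : H) : p ^ 2 ≤ Nat.card (Subgroup.centralizer ({x} : Set H)) := by
  have hH := IsPGroup.of_card hn
  by_cases hx : x ∈ Subgroup.center H
  · have : Subgroup.centralizer ({x} : Set H) = ⊤ := eq_top_iff.2 fun y _ =>
      Subgroup.mem_centralizer_singleton_iff.2 (Subgroup.mem_center_iff.1 hx y)
    rw [this, Subgroup.card_top, hn]
    exact Nat.pow_le_pow_right hp.out.pos h2
  haveI : Nontrivial H := (Finite.one_lt_card_iff_nontrivial).1 (hn ▸ Nat.one_lt_pow (by omega) hp.out.one_lt)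
  have hlt : Subgroup.center H < Subgroup.centralizer ({x} : Set H) :=
    SetLike.lt_iff_le_and_exists.2 ⟨fun z hz => Subgroup.mem_centralizer_singleton_iff.2
      (Subgroup.mem_center_iff.1 hz x).symm, x, Subgroup.mem_centralizer_singleton_iff.2 rfl, hx⟩
  obtain ⟨a, ha⟩ := IsPGroup.iff_card.1 (hH.to_subgroup (Subgroup.center H))
  obtain ⟨b, hb⟩ := IsPGroup.iff_card.1 (hH.to_subgroup (Subgroup.centralizer ({x} : Set H)))
  have h1 : Nat.card ↥(Subgroup.center H) < Nat.card ↥(Subgroup.centralizer ({x} : Set H)) :=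
    Set.ncard_lt_ncard (SetLike.coe_ssubset_coe.2 hlt) (Set.toFinite _)
  rw [ha, hb] at h1
  have h1' := (Nat.pow_lt_pow_iff_right hp.out.one_lt).1 h1
  have ha0 : a ≠ 0 := by
    rintro rfl
    exact hH.bot_lt_center.ne' ((Subgroup.eq_bot_iff_card _).2 (by rw [ha, pow_zero]))
  rw [hb]
  exact Nat.pow_le_pow_right hp.out.pos (by omega)

theorem factorization_eq_two (P : Sylow p G) {n : ℕ} (hP : Nat.card P = p ^ n) (h2 : 2 ≤ n) {x : G}
    (hx : x ∈ (P : Subgroup G)) (hs : SmallC p x) :
    (Nat.card (Subgroup.centralizer ({x} : Set G))).factorization p = 2 := by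
  set C := Subgroup.centralizer ({x} : Set G) with hC
  obtain ⟨T, hT⟩ := IsPGroup.exists_le_sylow (P := ((P : Subgroup G) ⊓ C).subgroupOf C)
    ((P.isPGroup'.to_le (inf_le_left : (P : Subgroup G) ⊓ C ≤ (P : Subgroup G))).of_equiv
      (Subgroup.subgroupOfEquivOfLe inf_le_right).symm)
  have h1 := Subgroup.card_le_of_le hT
  rw [Nat.card_congr (Subgroup.subgroupOfEquivOfLe (inf_le_right : (P : Subgroup G) ⊓ C ≤ C)).toEquiv,
    card_centralizer_coe (P : Subgroup G) ⟨x, hx⟩, T.card_eq_multiplicity] at h1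
  have h3 := hs ((T : Subgroup C).map C.subtype) (T.isPGroup'.map _) (by
    rintro _ ⟨d, -, rfl⟩
    exact Subgroup.mem_centralizer_singleton_iff.1 d.2)
  rw [Subgroup.card_map_of_injective C.subtype_injective, T.card_eq_multiplicity] at h3
  have h4 := (sq_le_card_centralizer (p := p) hP h2 ⟨x, hx⟩).trans h1
  exact le_antisymm ((Nat.pow_le_pow_iff_right hp.out.one_lt).1 h3)
    ((Nat.pow_le_pow_iff_right hp.out.one_lt).1 h4)

theorem main (P : Sylow p G) (n : ℕ) (hP : Nat.card P = p ^ n) (hn : 2 ≤ n)
    (hmax : Group.nilpotencyClass ↥(P : Subgroup G) = n - 1) (hcore : Cfsg.pPrimeCore p G = ⊥)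
    (hres : ∀ N : Subgroup G, N.Normal → (N.index).Coprime p → N = ⊤) :
    (∃ x ∈ (P : Subgroup G), (Nat.card (Subgroup.centralizer ({x} : Set G))).factorization p = 2) ∨
      (Cfsg.IsQuasisimple G ∧ Nat.card (Subgroup.center G) ≤ p) := by
  classical
  have hp2 := hp.out.two_le
  rcases eq_or_lt_of_le hn with h2 | h3
  · refine Or.inl ⟨1, one_mem _, factorization_eq_two P hP hn (one_mem _) ?_⟩
    intro D hD _
    obtain ⟨T, hT⟩ := hD.exists_le_sylow
    refine (Subgroup.card_le_of_le hT).trans (le_of_eq ?_)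
    rw [Sylow.card_eq_multiplicity, ← Sylow.card_eq_multiplicity P, hP, h2]
  replace h3 : 3 ≤ n := h3
  haveI := P.isPGroup'.isNilpotent
  -- a maximal proper normal subgroup
  haveI : Nontrivial G := by
    refine (Finite.one_lt_card_iff_nontrivial).1 (lt_of_lt_of_le ?_ (Subgroup.card_le_card_group (P : Subgroup G)))
    rw [show Nat.card ↥(P : Subgroup G) = p ^ n from hP]
    exact Nat.one_lt_pow (by omega) hp.out.one_lt
  obtain ⟨K, ⟨hKn, hKt⟩, hKmax⟩ := (Set.toFinite {N : Subgroup G | N.Normal ∧ N ≠ ⊤}).exists_maximal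
    ⟨⊥, inferInstance, bot_ne_top⟩
  haveI := hKn
  have hmaxK : ∀ N : Subgroup G, N.Normal → K ≤ N → N = K ∨ N = ⊤ := fun N hN hle => by
    by_cases h : N = ⊤
    · exact Or.inr h
    · exact Or.inl (le_antisymm (hKmax ⟨hN, h⟩ hle) hle)
  have hproper : ∀ N : Subgroup G, N.Normal → (P : Subgroup G) ≤ N → N = ⊤ := fun N hN hle =>
    hres N hN (((Nat.Prime.coprime_iff_not_dvd hp.out).2 P.not_dvd_index).symm.coprime_dvd_left
      (Subgroup.index_dvd_of_le hle))
  have hPK : ¬ (P : Subgroup G) ≤ K := fun h => hKt (hproper K hKn h)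
  have hM : K.subgroupOf (P : Subgroup G) ≠ ⊤ := fun h => hPK (Subgroup.subgroupOf_eq_top.1 h)
  have hMcard : Nat.card (K.subgroupOf (P : Subgroup G)) = Nat.card ((P : Subgroup G) ⊓ K : Subgroup G) := by
    rw [← Subgroup.card_map_of_injective (P : Subgroup G).subtype_injective,
      Subgroup.subgroupOf_map_subtype, inf_comm]
  by_cases hA : p ^ n ≤ p ^ 2 * Nat.card ((P : Subgroup G) ⊓ K : Subgroup G)
  · obtain ⟨s, hsM, hsC⟩ := exists_small_centralizer (G := (P : Subgroup G)) hP h3 hmax _ hM
    refine Or.inl ⟨s, s.2, factorization_eq_two P hP hn s.2 ?_⟩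
    exact smallC_of_index_le n G P K s hP hA s.2 (fun h => hsM (Subgroup.mem_subgroupOf.2 h))
      (by rw [card_centralizer_coe]; exact hsC)
  -- otherwise `K` is a `p`-group inside the derived subgroup of `P`
  obtain ⟨r, hr⟩ := P.isPGroup'.index (K.subgroupOf (P : Subgroup G))
  have hprod := (K.subgroupOf (P : Subgroup G)).card_mul_index
  rw [hr, show Nat.card ↥(P : Subgroup G) = p ^ n from hP, hMcard] at hprod
  obtain ⟨a, ha⟩ := IsPGroup.iff_card.1 (P.isPGroup'.to_le (inf_le_left : (P : Subgroup G) ⊓ K ≤ _))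
  rw [ha, ← pow_add] at hprod
  rw [ha, ← pow_add, Nat.pow_le_pow_iff_right hp.out.one_lt] at hA
  have har := Nat.pow_right_injective hp.out.two_le hprod
  have hlcs := MaxClass.eq_lcs_of_index hP h3 hmax (K.subgroupOf (P : Subgroup G)) (r := r)
    (by omega) hr
  have hcomm : K.subgroupOf (P : Subgroup G) ≤ commutator ↥(P : Subgroup G) := by
    rw [hlcs, ← Subgroup.top_lowerCentralSeries_one]
    exact Subgroup.lowerCentralSeries_antitone _ (by omega)
  obtain ⟨Q, N, hNn, hNQ⟩ := S0081.result P K (by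
    rw [← Subgroup.subgroupOf_map_subtype]
    exact Subgroup.map_mono (hcomm.trans (SolvStruct.commutator_le_frattini _)))
  have hNbot : N = ⊥ := by
    have h1 : Cfsg.pPrimeCore p K = ⊥ := by
      have := FittingCores.pPrimeCore_map_subtype_le p hKn
      rw [hcore, le_bot_iff, Subgroup.map_eq_bot_iff_of_injective _ K.subtype_injective] at this
      exact this
    rw [← le_bot_iff, ← h1]
    refine FittingCores.le_pPrimeCore hNn ?_
    rw [← hNQ.index_eq_card]
    exact ((Nat.Prime.coprime_iff_not_dvd hp.out).2 Q.not_dvd_index).symm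
  have hKp : IsPGroup p K := by
    obtain ⟨k, hk⟩ := IsPGroup.iff_card.1 Q.isPGroup'
    have h1 := hNQ.card_mul
    rw [hNbot, Subgroup.card_bot, one_mul, hk] at h1
    exact IsPGroup.of_card h1.symm
  have hKP : K ≤ (P : Subgroup G) := by
    obtain ⟨T, hT⟩ := hKp.exists_le_sylow
    obtain ⟨h, hh⟩ := MulAction.exists_smul_eq G T P
    intro x hx
    rw [← hh]
    have h2 := hT (hKn.conj_mem x hx h⁻¹)
    have := Subgroup.smul_mem_pointwise_smul _ (MulAut.conj h) _ h2
    show x ∈ MulAut.conj h • (T : Subgroup G)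
    simpa [mul_assoc] using this
  have hKcard : Nat.card K = p ^ a := by rw [← ha, inf_eq_right.2 hKP]
  by_cases hbig : 2 ≤ a
  · -- the flag
    obtain ⟨s, hsM, hsC⟩ := exists_small_centralizer (G := (P : Subgroup G)) hP h3 hmax _ hM
    refine Or.inl ⟨s, s.2, factorization_eq_two P hP hn s.2 ?_⟩
    have hsC' : Nat.card ((P : Subgroup G) ⊓ Subgroup.centralizer ({(s : G)} : Set G) : Subgroup G) ≤
        p ^ 2 := by rw [card_centralizer_coe]; exact hsC
    refine smallC_of_selfCentralizing hKP ?_ s.2 ?_ hsC'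
    · by_contra hcon
      have hCn : (Subgroup.centralizer (K : Set G)).Normal := by
        refine ⟨fun c hc g => Subgroup.mem_centralizer_iff.2 fun b hb => ?_⟩
        have h' := Subgroup.mem_centralizer_iff.1 hc _ (hKn.conj_mem b hb g⁻¹)
        rw [inv_inv] at h'
        calc b * (g * c * g⁻¹) = g * (g⁻¹ * b * g * c) * g⁻¹ := by group
          _ = g * (c * (g⁻¹ * b * g)) * g⁻¹ := by rw [h']
          _ = g * c * g⁻¹ * b := by group
      rcases hmaxK (Subgroup.centralizer (K : Set G) ⊔ K) inferInstance le_sup_right with h | h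
      · exact hcon (le_sup_left.trans h.le)
      -- then `P` centralizes `K`
      have hall : ∀ x ∈ (P : Subgroup G), ∀ b ∈ K, x * b = b * x := by
        have htop : (Subgroup.centralizer (K : Set G)).subgroupOf (P : Subgroup G) = ⊤ := by
          refine RegularP.eq_top_of_sup_commutator (eq_top_iff.2 fun x _ => ?_)
          obtain ⟨c, hc, k, hk, hck⟩ := Subgroup.mem_sup_of_normal_left.1
            (h.symm ▸ Subgroup.mem_top (x : G) : (x : G) ∈ Subgroup.centralizer (K : Set G) ⊔ K)
          have hcP : c ∈ (P : Subgroup G) := by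
            have := Subgroup.mul_mem _ x.2 (Subgroup.inv_mem _ (hKP hk))
            rwa [← hck, mul_inv_cancel_right] at this
          have e : x = (⟨c, hcP⟩ : (P : Subgroup G)) * ⟨k, hKP hk⟩ := Subtype.ext hck.symm
          rw [e]
          exact Subgroup.mul_mem_sup (Subgroup.mem_subgroupOf.2 hc) (hcomm (Subgroup.mem_subgroupOf.2 hk))
        intro x hx b hb
        exact (Subgroup.mem_centralizer_iff.1 (Subgroup.subgroupOf_eq_top.1 htop hx) b hb).symm
      have hKle : K < (P : Subgroup G) ⊓ Subgroup.centralizer ({(s : G)} : Set G) :=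
        (SetLike.lt_iff_le_and_exists (A := Subgroup G) (B := G)).2 ⟨fun b hb => ⟨hKP hb,
          Subgroup.mem_centralizer_singleton_iff.2 (hall s s.2 b hb).symm⟩, (s : G),
          ⟨s.2, Subgroup.mem_centralizer_singleton_iff.2 rfl⟩,
          fun h => hsM (Subgroup.mem_subgroupOf.2 h)⟩
      have h1 : Nat.card K < Nat.card ↥((P : Subgroup G) ⊓ Subgroup.centralizer ({(s : G)} : Set G)) :=
        Set.ncard_lt_ncard (SetLike.coe_ssubset_coe.2 hKle) (Set.toFinite _)
      rw [hKcard] at h1
      exact absurd (h1.trans_le hsC') (not_lt.2 (Nat.pow_le_pow_right hp.out.pos hbig))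
    · set I := K ⊓ Subgroup.centralizer ({(s : G)} : Set G) with hI
      have hlt : I < (P : Subgroup G) ⊓ Subgroup.centralizer ({(s : G)} : Set G) :=
        (SetLike.lt_iff_le_and_exists (A := Subgroup G) (B := G)).2 ⟨inf_le_inf_right _ hKP, (s : G),
          ⟨s.2, Subgroup.mem_centralizer_singleton_iff.2 rfl⟩,
          fun h => hsM (Subgroup.mem_subgroupOf.2 h.1)⟩
      have h1 : Nat.card I < Nat.card ↥((P : Subgroup G) ⊓ Subgroup.centralizer ({(s : G)} : Set G)) :=
        Set.ncard_lt_ncard (SetLike.coe_ssubset_coe.2 hlt) (Set.toFinite _)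
      obtain ⟨b, hb⟩ := IsPGroup.iff_card.1 (hKp.to_le (inf_le_left : I ≤ K))
      have h2 := h1.trans_le hsC'
      rw [hb] at h2 ⊢
      have h2' := (Nat.pow_lt_pow_iff_right hp.out.one_lt).1 h2
      exact (Nat.pow_le_pow_right hp.out.pos (by omega : b ≤ 1)).trans (pow_one p).le
  -- `G` is quasisimple
  refine Or.inr ?_
  have hKcentral : K ≤ Subgroup.center G := by
    rcases (by omega : a = 0 ∨ a = 1) with rfl | rfl
    · rw [(Subgroup.eq_bot_iff_card K).2 (by rw [hKcard, pow_zero])]
      exact bot_le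
    · have hc : ∀ x ∈ (P : Subgroup G), ∀ b ∈ K, x * b = b * x :=
        commute_of_card_prime P.isPGroup' hKP (by rw [hKcard, pow_one]) fun x _ b hb => hKn.conj_mem b hb x
      have hCn : (Subgroup.centralizer (K : Set G)).Normal := by
        refine ⟨fun c hc g => Subgroup.mem_centralizer_iff.2 fun b hb => ?_⟩
        have h' := Subgroup.mem_centralizer_iff.1 hc _ (hKn.conj_mem b hb g⁻¹)
        rw [inv_inv] at h'
        calc b * (g * c * g⁻¹) = g * (g⁻¹ * b * g * c) * g⁻¹ := by group
          _ = g * (c * (g⁻¹ * b * g)) * g⁻¹ := by rw [h']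
          _ = g * c * g⁻¹ * b := by group
      have htop := hproper _ hCn fun x hx => Subgroup.mem_centralizer_iff.2 fun b hb => (hc x hx b hb).symm
      exact fun b hb => Subgroup.mem_center_iff.2 fun g =>
        (Subgroup.mem_centralizer_iff.1 (htop.symm ▸ Subgroup.mem_top g) b hb).symm
  have hPna : commutator ↥(P : Subgroup G) ≠ ⊥ := MaxClass.commutator_ne_bot hP h3 hmax
  have hcenter : Subgroup.center G = K := by
    rcases hmaxK (Subgroup.center G) inferInstance hKcentral with h | h
    · exact h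
    · exfalso
      refine hPna ?_
      rw [commutator_def, Subgroup.commutator_eq_bot_iff_le_centralizer]
      intro x _
      exact Subgroup.mem_centralizer_iff.2 fun y _ => Subtype.ext
        (Subgroup.mem_center_iff.1 (show (x : G) ∈ Subgroup.center G by rw [h]; exact Subgroup.mem_top _) y)
  have hKG : K ≤ commutator G := fun x hx => by
    have h1 : (commutator ↥(P : Subgroup G)).map (P : Subgroup G).subtype ≤ commutator G := by
      rw [commutator_def, Subgroup.map_commutator, commutator_def]
      exact Subgroup.commutator_mono le_top le_top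
    exact h1 ⟨⟨x, hKP hx⟩, hcomm (Subgroup.mem_subgroupOf.2 hx), rfl⟩
  have hperf : commutator G = ⊤ := by
    rcases hmaxK (commutator G) inferInstance hKG with h | h
    · exfalso
      -- then the derived subgroup of `P` is too small
      have h1 : commutator ↥(P : Subgroup G) ≤ K.subgroupOf (P : Subgroup G) := by
        rw [← h]
        intro x hx
        have h1 : (commutator ↥(P : Subgroup G)).map (P : Subgroup G).subtype ≤ commutator G := by
          rw [commutator_def, Subgroup.map_commutator, commutator_def]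
          exact Subgroup.commutator_mono le_top le_top
        exact Subgroup.mem_subgroupOf.2 (h1 ⟨x, hx, rfl⟩)
      have h2 := Subgroup.index_dvd_of_le h1
      rw [hr, MaxClass.index_commutator_eq hP h3 hmax, Nat.pow_dvd_pow_iff_le_right hp.out.one_lt] at h2
      omega
    · exact h
  refine ⟨⟨⟨hperf⟩, ?_⟩, ?_⟩
  · haveI : Nontrivial (G ⧸ Subgroup.center G) :=
      QuotientGroup.nontrivial_iff.2 (hcenter.symm ▸ hKt)
    refine ⟨fun H hH => ?_⟩
    rcases hmaxK (H.comap (QuotientGroup.mk' (Subgroup.center G))) (hH.comap _) (by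
      rw [← hcenter]
      intro x hx
      rw [Subgroup.mem_comap, QuotientGroup.mk'_apply, (QuotientGroup.eq_one_iff x).2 hx]
      exact one_mem _) with h | h
    · refine Or.inl ?_
      rw [← Subgroup.map_comap_eq_self_of_surjective (QuotientGroup.mk'_surjective _) H, h, ← hcenter,
        QuotientGroup.map_mk'_self]
    · refine Or.inr ?_
      rw [← Subgroup.map_comap_eq_self_of_surjective (QuotientGroup.mk'_surjective _) H, h,
        Subgroup.map_top_of_surjective _ (QuotientGroup.mk'_surjective _)]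
  · rw [hcenter, hKcard]
    exact (Nat.pow_le_pow_right hp.out.pos (by omega : a ≤ 1)).trans (pow_one p).le

end Cfsg.Agent.MaxClassSylow
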