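import Cfsg.Agent.S4144
import Cfsg.Agent.Lib.Solvable.Basic

/-!
# Uniform elements in `p`-groups of maximal class

Outside any proper subgroup of a `p`-group of maximal class some element has centralizer of order
at most `p ^ 2`.
-/

set_option autoImplicit false
set_option linter.unusedSectionVars false

namespace Cfsg.Agent.MaxClassSylow

open Cfsg.Agent Cfsg.Agent.PolySeq
open Cfsg.Agent.S4144 (twoStep gam_two_eq)
open scoped commutatorElement

universe u

variable {G : Type u} [Group G] [Finite G] {p n : ℕ} [hp : Fact p.Prime] (hn : Nat.card G = p ^ n)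
  (h3 : 3 ≤ n) (hcl : Group.nilpotencyClass G = n - 1)
include hn h3 hcl

theorem gen_le {i : ℕ} (hi : 2 ≤ i) (hin : i < n) {y : G} (hy : y ∈ gam G i) (hy' : y ∉ gam G (i + 1))
    {T : Subgroup G} (hyT : y ∈ T) (hT : gam G (i + 1) ≤ T) : gam G i ≤ T :=
  (S3806.gam_gen hn h3 hcl hi hin hy hy').trans (sup_le (Subgroup.zpowers_le.2 hyT) hT)

theorem comm_not_mem {j : ℕ} (hj : 2 ≤ j) (hjn : j + 1 < n) {s w : G} (hs : s ∉ twoStep G j)
    (hw : w ∈ gam G j) (hw' : w ∉ gam G (j + 1)) : ⁅w, s⁆ ∉ gam G (j + 2) := by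
  intro h
  refine hs fun v hv => ?_
  set f := QuotientGroup.mk' (gam G (j + 2)) with hf
  have hle : gam G j ≤ ((Subgroup.centralizer {f s}).comap f) := by
    refine gen_le hn h3 hcl hj (by omega) hw hw' ?_ fun v hv => ?_
    · rw [Subgroup.mem_comap, Subgroup.mem_centralizer_singleton_iff,
        ← commutatorElement_eq_one_iff_mul_comm, ← map_commutatorElement, S4144.mk_eq_one]
      exact h
    · rw [Subgroup.mem_comap, Subgroup.mem_centralizer_singleton_iff,
        ← commutatorElement_eq_one_iff_mul_comm, ← map_commutatorElement, S4144.mk_eq_one]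
      exact gam_commutator (j := 1) hv (Subgroup.mem_top s)
  have h1 := hle hv
  rwa [Subgroup.mem_comap, Subgroup.mem_centralizer_singleton_iff,
    ← commutatorElement_eq_one_iff_mul_comm, ← map_commutatorElement, S4144.mk_eq_one] at h1

theorem not_gam_le' {i : ℕ} (hi : 2 ≤ i) (hin : i < n) : ¬ gam G i ≤ gam G (i + 1) := fun h => by
  have h1 := Subgroup.card_le_of_le h
  rw [S3806.card_gam hn h3 hcl hi hin.le, S3806.card_gam hn h3 hcl (by omega) hin] at h1
  have := (Nat.pow_le_pow_iff_right hp.out.one_lt).1 h1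
  omega

theorem twoStep_ne_top {j : ℕ} (hj : 2 ≤ j) (hjn : j + 1 < n) : twoStep G j ≠ ⊤ := by
  intro h
  refine not_gam_le' hn h3 hcl (i := j + 1) (by omega) hjn ?_
  rw [MaxClassLinear.gam_step (by omega), Subgroup.commutator_le]
  intro w hw s _
  have hs : s ∈ twoStep G j := by rw [h]; exact Subgroup.mem_top s
  exact hs w hw

theorem twoStep_periodic (hpn : p + 1 ≤ n) {j : ℕ} (hj : 2 ≤ j) (hjn : j + p < n) {s : G}
    (hs : s ∉ twoStep G j) : s ∉ twoStep G (j + (p - 1)) := by
  have h2 := hp.out.two_le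
  intro h
  obtain ⟨z, hz, hz'⟩ := SetLike.not_le_iff_exists.1 (not_gam_le' hn h3 hcl hj (by omega))
  set c := ⁅z, s⁆ with hcdef
  have hc : c ∈ gam G (j + 1) := gam_commutator (j := 1) hz (Subgroup.mem_top s)
  have hc' : c ∉ gam G (j + 2) := comm_not_mem hn h3 hcl hj (by omega) hs hz hz'
  -- powers
  set d := z⁻¹ * (s * z * s⁻¹) with hddef
  have hd : d = z⁻¹ * c⁻¹ * z⁻¹⁻¹ := by rw [hddef, hcdef, commutatorElement_def]; group
  have hd1 : d ∈ gam G (j + 1) := by
    rw [hd]; exact (gam_normal _).conj_mem _ (inv_mem hc) _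
  have hd2 : d ∉ gam G (j + 2) := fun h1 => hc' (by
    rw [show c = (z * d * z⁻¹)⁻¹ by rw [hd]; group]
    exact inv_mem ((gam_normal _).conj_mem _ h1 z))
  have hm := S4144.pow_mul_mod hn hpn hcl (i := j + 1) (by omega) (a := z) (b := d)
    (gam_anti (by omega) (gam_commutator hz hd1))
  rw [show z * d = s * z * s⁻¹ by rw [hddef]; group, conj_pow] at hm
  have hdp : d ^ p ∉ gam G (j + 1 + p) := S4144.pow_not_mem hn hpn hcl (by omega) (by omega) hd1 hd2
  refine hdp ?_
  have hzp : z ^ p ∈ gam G (j + (p - 1)) := S4144.pow_le hn hpn hcl hj hz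
  have h4 := h _ hzp
  rw [show j + (p - 1) + 2 = j + 1 + p by omega] at h4
  rw [show d ^ p = ((z ^ p)⁻¹ * ⁅z ^ p, s⁆⁻¹ * (z ^ p)⁻¹⁻¹) *
      ((s * z ^ p * s⁻¹)⁻¹ * (z ^ p * d ^ p)) by simp only [commutatorElement_def]; group]
  exact mul_mem ((gam_normal _).conj_mem _ (inv_mem h4) _) hm

/-- An element avoiding at most `p` proper subgroups. -/
theorem exists_avoid' {ι : Type*} (J : Finset ι) (f : ι → Subgroup G) (hJ : J.card ≤ p)
    (hf : ∀ j ∈ J, f j ≠ ⊤) : ∃ s, s ≠ 1 ∧ ∀ j ∈ J, s ∉ f j := by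
  classical
  haveI := Fintype.ofFinite G
  by_contra! h
  have hsub : (Finset.univ : Finset G).erase 1 ⊆ J.biUnion fun j => ((f j : Set G).toFinset).erase 1 := by
    intro s hs
    obtain ⟨j, hj, hsj⟩ := h s (Finset.ne_of_mem_erase hs)
    exact Finset.mem_biUnion.2 ⟨j, hj, Finset.mem_erase.2 ⟨Finset.ne_of_mem_erase hs,
      Set.mem_toFinset.2 hsj⟩⟩
  have hcard : ∀ j ∈ J, (((f j : Set G).toFinset).erase 1).card ≤ p ^ (n - 1) - 1 := by
    intro j hj
    rw [Finset.card_erase_of_mem (Set.mem_toFinset.2 (one_mem (f j))), Set.toFinset_card,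
      ← Nat.card_eq_fintype_card]
    refine Nat.sub_le_sub_right ?_ 1
    change Nat.card ↥(f j) ≤ _
    obtain ⟨a, ha⟩ := IsPGroup.iff_card.1 ((IsPGroup.of_card hn).to_subgroup (f j))
    rw [ha]
    refine Nat.pow_le_pow_right hp.out.pos ?_
    have hle : p ^ a ≤ p ^ n := by rw [← ha, ← hn]; exact Subgroup.card_le_card_group _
    rcases Nat.lt_or_eq_of_le ((Nat.pow_le_pow_iff_right hp.out.one_lt).1 hle) with h1 | rfl
    · exact Nat.le_sub_one_of_lt h1
    · exact absurd (Subgroup.eq_top_of_card_eq _ (ha.trans hn.symm)) (hf j hj)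
  have h4 := (Finset.card_le_card hsub).trans
    (Finset.card_biUnion_le.trans (Finset.sum_le_card_nsmul _ _ _ hcard))
  rw [Finset.card_erase_of_mem (Finset.mem_univ _), Finset.card_univ, ← Nat.card_eq_fintype_card, hn,
    smul_eq_mul] at h4
  have h5 : J.card * (p ^ (n - 1) - 1) ≤ p * (p ^ (n - 1) - 1) := Nat.mul_le_mul_right _ hJ
  have h6 : p * (p ^ (n - 1) - 1) = p ^ n - p := by
    rw [Nat.mul_sub_one, ← pow_succ', show n - 1 + 1 = n by omega]
  have h7 : p ≤ p ^ n := Nat.le_self_pow (by omega) p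
  have := hp.out.two_le
  omega

/-- Outside every proper subgroup there is an element outside all two-step centralizers. -/
theorem exists_uniform (h4 : 4 ≤ n) (M : Subgroup G) (hM : M ≠ ⊤) :
    ∃ s, s ∉ M ∧ ∀ j, 2 ≤ j → j + 1 < n → s ∉ twoStep G j := by
  classical
  have h2 := hp.out.two_le
  obtain ⟨s, -, hs⟩ := exists_avoid' hn h3 hcl (insert none ((Finset.Icc 2 (min p (n - 2))).image some))
    (fun o : Option ℕ => o.elim M (twoStep G))
    (by
      refine (Finset.card_insert_le _ _).trans ?_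
      refine Nat.succ_le_of_lt (lt_of_le_of_lt Finset.card_image_le ?_)
      rw [Nat.card_Icc]
      omega)
    (by
      intro o ho
      rcases Finset.mem_insert.1 ho with rfl | ho
      · exact hM
      · obtain ⟨j, hj, rfl⟩ := Finset.mem_image.1 ho
        rw [Finset.mem_Icc] at hj
        exact twoStep_ne_top hn h3 hcl hj.1 (by omega))
  refine ⟨s, hs none (Finset.mem_insert_self _ _), fun j => ?_⟩
  induction j using Nat.strong_induction_on with
  | _ j ih =>
    intro hj hjn
    by_cases hjp : j ≤ p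
    · exact hs (some j) (Finset.mem_insert_of_mem (Finset.mem_image_of_mem _
        (Finset.mem_Icc.2 ⟨hj, by omega⟩)))
    · have := twoStep_periodic hn h3 hcl (by omega) (j := j - (p - 1)) (by omega) (by omega)
        (ih _ (by omega) (by omega) (by omega))
      rwa [show j - (p - 1) + (p - 1) = j by omega] at this

/-- Outside every proper subgroup some element has centralizer of order at most `p ^ 2`. -/
theorem exists_small_centralizer (M : Subgroup G) (hM : M ≠ ⊤) :
    ∃ s, s ∉ M ∧ Nat.card (Subgroup.centralizer ({s} : Set G)) ≤ p ^ 2 := by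
  classical
  have hG := IsPGroup.of_card hn
  haveI := hG.isNilpotent
  have hcenter : Subgroup.center G ≠ ⊤ := by
    intro h
    refine MaxClass.commutator_ne_bot hn h3 hcl ?_
    rw [commutator_def, Subgroup.commutator_eq_bot_iff_le_centralizer]
    intro a _
    exact Subgroup.mem_centralizer_iff.2 fun b _ =>
      Subgroup.mem_center_iff.1 (h.symm ▸ Subgroup.mem_top a) b
  suffices h : ∃ s, s ∉ M ∧ s ∉ Subgroup.center G ∧
      ∀ j, 2 ≤ j → j + 1 < n → s ∉ twoStep G j by
    obtain ⟨s, hsM, hsc, hs⟩ := h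
    refine ⟨s, hsM, ?_⟩
    set C := Subgroup.centralizer ({s} : Set G) with hC
    -- the centralizer in the derived subgroup
    have hlow : ∀ i, i ≤ n - 3 → C ⊓ gam G 2 ≤ gam G (2 + i) := by
      intro i
      induction i with
      | zero => intro _; exact inf_le_right
      | succ i ih =>
        intro hi z hz
        have hz' := ih (by omega) hz
        by_contra hcon
        refine comm_not_mem hn h3 hcl (by omega) (by omega) (hs (2 + i) (by omega) (by omega)) hz' hcon ?_
        rw [commutatorElement_eq_one_iff_mul_comm.2 (Subgroup.mem_centralizer_singleton_iff.1 hz.1)]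
        exact one_mem _
    have hinf : Nat.card (C ⊓ gam G 2 : Subgroup G) ≤ p := by
      refine (Subgroup.card_le_of_le (hlow (n - 3) le_rfl)).trans ?_
      rw [S3806.card_gam hn h3 hcl (by omega) (by omega), show n - (2 + (n - 3)) = 1 by omega, pow_one]
    have hne : gam G 2 ⊔ C ≠ ⊤ := by
      intro h1
      rw [gam_two_eq, sup_comm] at h1
      have h2 := RegularP.eq_top_of_sup_commutator h1
      exact hsc (Subgroup.mem_center_iff.2 fun g =>
        Subgroup.mem_centralizer_singleton_iff.1 (show g ∈ C by rw [h2]; exact Subgroup.mem_top g))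
    have hsup : Nat.card (gam G 2 ⊔ C : Subgroup G) ≤ p ^ (n - 1) := by
      obtain ⟨a, ha⟩ := IsPGroup.iff_card.1 (hG.to_subgroup (gam G 2 ⊔ C))
      rw [ha]
      refine Nat.pow_le_pow_right hp.out.pos ?_
      have hle : p ^ a ≤ p ^ n := by rw [← ha, ← hn]; exact Subgroup.card_le_card_group _
      rcases Nat.lt_or_eq_of_le ((Nat.pow_le_pow_iff_right hp.out.one_lt).1 hle) with h1 | rfl
      · exact Nat.le_sub_one_of_lt h1
      · exact absurd (Subgroup.eq_top_of_card_eq _ (ha.trans hn.symm)) hne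
    have hprod := SolvBasic.card_sup_mul_card_inf (N := gam G 2) (H := C)
      Subgroup.le_normalizer_of_normal
    rw [inf_comm, S3806.card_gam hn h3 hcl le_rfl (by omega)] at hprod
    refine le_of_mul_le_mul_left (a := p ^ (n - 2)) ?_ (pow_pos hp.out.pos _)
    rw [← hprod, ← pow_add, show n - 2 + 2 = n - 1 + 1 by omega, pow_succ]
    exact Nat.mul_le_mul hsup hinf
  rcases Nat.lt_or_ge n 4 with h4 | h4
  · obtain ⟨s, -, hs⟩ := exists_avoid' hn h3 hcl (Finset.univ : Finset Bool)
      (fun b => if b then M else Subgroup.center G)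
      (by rw [Finset.card_univ, Fintype.card_bool]; exact hp.out.two_le)
      (fun b _ => by cases b <;> simpa)
    exact ⟨s, by simpa using hs true (Finset.mem_univ _), by simpa using hs false (Finset.mem_univ _),
      fun j hj hjn => absurd hjn (by omega)⟩
  · obtain ⟨s, hsM, hs⟩ := exists_uniform hn h3 hcl h4 M hM
    refine ⟨s, hsM, fun hc => hs 2 le_rfl (by omega) fun w _ => ?_, hs⟩
    rw [commutatorElement_eq_one_iff_mul_comm.2 (Subgroup.mem_center_iff.1 hc w)]
    exact one_mem _

end Cfsg.Agent.MaxClassSylow
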